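import Cfsg.Agent.SporadicB.RuData
import Cfsg.Agent.Lib.BitNetGroup

/-!
Generators of the Rudvalis group preserve the graph: two of the six checks (split for memory).
-/

set_option autoImplicit false
set_option maxRecDepth 100000
set_option exponentiation.threshold 5000

namespace Cfsg.Agent.SporadicB.RuInv

open Cfsg.Agent.SporadicB.RuData Cfsg.Agent.Lib.BitNet

theorem inv2 : invCheck 12 row net2 = true := by decide +kernel
theorem inv3 : invCheck 12 row net3 = true := by decide +kernel

end Cfsg.Agent.SporadicB.RuInv
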